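import Cfsg.Agent.R2.Spec.AA.Third
import Cfsg.Agent.R2.Spec.E.Exo
import Cfsg.Agent.R2.Spec.X5.TorL
import Cfsg.Agent.R2.Spec.F1.TopC2
import Cfsg.Agent.R2.Spec.P1.TopTwo
import Cfsg.Agent.R2.Spec.P1.Main

/-!
# Team T3 (S3435), packet EXO-AA: the families `A` with the signed size of the field (helper22)

`IsAA t n q x` : `t = psl n`, `x = q` or `t = psu n`, `x = -q`.
-/

set_option autoImplicit false

namespace Cfsg.Agent.R2.Spec.AA

open Cfsg Cfsg.Agent.H426.LieFam Cfsg.Agent.R2.Spec Cfsg.Agent.R2.Spec.P1 Cfsg.Agent.R2.Spec.F1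
open Cfsg.Agent.R2.Spec.E Cfsg.Agent.R2.Spec.X7

universe u w

/-- the families `A` with the signed size of the field -/
def IsAA (t : Fam) (n q : ℕ) (x : ℤ) : Prop := (t = .psl n ∧ x = q) ∨ (t = .psu n ∧ x = -(q : ℤ))

variable {t : Fam} {n q : ℕ} {x : ℤ}

theorem IsAA.abs_eq (h : IsAA t n q x) : x.natAbs = q := by
  rcases h with ⟨-, rfl⟩ | ⟨-, rfl⟩ <;> simp

theorem IsAA.usg_eq (h : IsAA t n q x) (hq : 1 ≤ q) : usg t q = (x - 1).natAbs := by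
  rcases h with ⟨rfl, rfl⟩ | ⟨rfl, rfl⟩
  · show q - 1 = _
    omega
  · show q + 1 = _
    omega

theorem IsAA.dgL_eq (h : IsAA t n q x) (hq : 1 ≤ q) : dgL t q = Nat.gcd n (x - 1).natAbs := by
  rcases h with ⟨rfl, rfl⟩ | ⟨rfl, rfl⟩
  · show Nat.gcd n (q - 1) = _
    congr 1
    omega
  · show Nat.gcd n (q + 1) = _
    congr 1
    omega

theorem IsAA.val (h : IsAA t n q x) (hn : 2 ≤ n) (hq : 2 ≤ q) :
    ttor t q n * (Nat.gcd n (x - 1).natAbs * (x - 1).natAbs) = ua x n ∧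
      ttor t q (n - 1) * Nat.gcd n (x - 1).natAbs = ua x (n - 1) := by
  rcases h with ⟨rfl, rfl⟩ | ⟨rfl, rfl⟩
  · have h1 := val_psl hn hq
    rw [ua_plus (by omega), ua_plus (by omega), show ((q : ℤ) - 1).natAbs = q - 1 by omega]
    exact h1
  · have h1 := val_psu hn hq
    have hN : ∀ m : ℕ, ua (-(q : ℤ)) m = if m % 2 = 0 then q ^ m - 1 else q ^ m + 1 := by
      intro m
      split_ifs with hm
      · exact ua_minus_even (by omega) (Nat.even_iff.2 hm)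
      · exact ua_minus_odd (Nat.odd_iff.2 (by omega))
    have hN1 : ua (-(q : ℤ)) (n - 1) = if n % 2 = 0 then q ^ (n - 1) + 1 else q ^ (n - 1) - 1 := by
      rw [hN]
      by_cases h2 : n % 2 = 0
      · rw [if_pos h2, if_neg (by omega)]
      · rw [if_neg h2, if_pos (by omega)]
    rw [hN, hN1, show (-(q : ℤ) - 1).natAbs = q + 1 by omega]
    exact h1

theorem IsAA.cls_eq (h : IsAA t n q x) (r : ℕ) : cls t q r = orderOf ((x : ℤ) : ZMod r) := by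
  rcases h with ⟨rfl, rfl⟩ | ⟨rfl, rfl⟩ <;> rfl

theorem IsAA.na_iff (h : IsAA t n q x) {i j : ℕ} : na t i j ↔ n < i + j ∧ ¬ i ∣ j ∧ ¬ j ∣ i := by
  rcases h with ⟨rfl, rfl⟩ | ⟨rfl, rfl⟩ <;> rfl

theorem IsAA.mem_iff (h : IsAA t n q x) {i : ℕ} : mem t i ↔ i ≤ n := by
  rcases h with ⟨rfl, rfl⟩ | ⟨rfl, rfl⟩ <;> rfl

theorem IsAA.top_iff (h : IsAA t n q x) {i : ℕ} : top t i ↔ 3 ≤ i ∧ (i = n ∨ i + 1 = n) := by
  rcases h with ⟨rfl, rfl⟩ | ⟨rfl, rfl⟩ <;> rfl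

theorem IsAA.rk_eq (h : IsAA t n q x) : rk t = n := by
  rcases h with ⟨rfl, rfl⟩ | ⟨rfl, rfl⟩ <;> rfl

theorem IsAA.five (h : IsAA t n q x) (hn : 9 ≤ n) : Five t := by
  rcases h with ⟨rfl, rfl⟩ | ⟨rfl, rfl⟩ <;> exact hn

theorem IsAA.fldOk (h : IsAA t n q x) {k : ℕ} (hk : 3 ≤ k) : FldOk t k := by
  rcases h with ⟨rfl, rfl⟩ | ⟨rfl, rfl⟩
  · exact fun h2 => absurd h2 (by omega)
  · exact fun h2 => absurd h2 (by omega)

theorem IsAA.bigI (h : IsAA t n q x) {i : ℕ} (h3 : 3 ≤ i) (hi : i ≤ n) (h2 : n < 2 * i) : Big t i := by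
  rcases h with ⟨rfl, rfl⟩ | ⟨rfl, rfl⟩ <;> exact ⟨h3, hi, h2⟩

theorem ua_xv {e : Bool} {k : ℕ} (hq : 1 ≤ q) :
    Cfsg.Agent.H403.NumTop.AA e k q = ua (Cfsg.Agent.H403.NumTop.xv e q) k := by
  rcases Cfsg.Agent.H403.NumTop.AA_eq (e := e) (i := k) hq with h | h
  · rw [ua, ← h, Int.natAbs_natCast]
  · rw [ua, ← Int.natAbs_neg, ← h, Int.natAbs_natCast]

theorem IsAA.isA (h : IsAA t n q x) (hq : 1 ≤ q) :
    ∃ e, X5.IsA t n e ∧ ∀ k, Cfsg.Agent.H403.NumTop.AA e k q = ua x k := by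
  rcases h with ⟨rfl, rfl⟩ | ⟨rfl, rfl⟩
  · exact ⟨true, ⟨rfl, rfl⟩, fun k => by rw [ua_xv hq]; rfl⟩
  · exact ⟨false, ⟨rfl, rfl⟩, fun k => by rw [ua_xv hq]; rfl⟩

theorem IsAA.le (h : IsAA t n q x) {p f : ℕ} {X : Type w} [Group X] (his : Fam.Is p f X t) : 2 ≤ n := by
  rcases h with ⟨rfl, rfl⟩ | ⟨rfl, rfl⟩
  · exact his.1
  · exact le_trans (by norm_num) his.1

/-- two tori -/
theorem IsAA.tor {p f : ℕ} (h : IsAA t n (p ^ f) x) {X : Type w} [Group X] (his : Fam.Is p f X t) (hq : 1 ≤ p ^ f)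
    {k b : ℕ} (hk : 1 ≤ k) (hb : 1 ≤ b) (hkb : k + b + 2 ≤ n) :
    ∃ g : X, orderOf g = Nat.lcm (ua x k) (ua x b) := by
  obtain ⟨e, he, hA⟩ := h.isA hq
  obtain ⟨g, c, h1, -, h2⟩ := X5.torL his he (by omega) hk hb (by omega)
  rw [h2 hkb, mul_one, hA, hA] at h1
  exact ⟨g, h1⟩

/-- one torus -/
theorem IsAA.tor_one {p f : ℕ} (h : IsAA t n (p ^ f) x) {X : Type w} [Group X] (his : Fam.Is p f X t) (hq : 1 ≤ p ^ f)
    {k : ℕ} (hk : 1 ≤ k) (hkb : k + 2 ≤ n) : ∃ g : X, orderOf g = ua x k := by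
  obtain ⟨e, he, hA⟩ := h.isA hq
  obtain ⟨g, c, h1, -, h2⟩ := X5.torL_one his he (by omega) hk (by omega)
  rw [h2 hkb, mul_one, hA] at h1
  exact ⟨g, h1⟩

/-- the orders divisible by a prime of the class `n - 2` -/
theorem IsAA.ub_third {p f : ℕ} (h : IsAA t n (p ^ f) x) {X : Type w} [Group X] [Finite X] (hp : p.Prime)
    (his : Fam.Is p f X t) (hn : 5 ≤ n) {r : ℕ} (hr : r.Prime) (hrp : r ≠ p) (hc : cls t (p ^ f) r + 2 = n) {g : X}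
    (hg : r ∣ orderOf g) : orderOf g ∣ p * ua x (n - 2) ∨ orderOf g ∣ ua x (n - 2) * (x + 1).natAbs := by
  have hfp := Fact.mk hp
  rw [h.cls_eq] at hc
  rcases h with ⟨rfl, rfl⟩ | ⟨rfl, rfl⟩
  · obtain ⟨-, -, F, _, _, hch, hF, ⟨e⟩⟩ := his
    rw [← MulEquiv.orderOf_eq e g] at hg ⊢
    exact HasMat.ub_third (hasMat_psl rfl hF (e g)) hr hrp hg hn hc
  · obtain ⟨-, -, F, _, _, hch, hF, ⟨e0⟩⟩ := his
    have e : X ≃* PSU n F (p ^ f) := e0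
    rw [← MulEquiv.orderOf_eq e g] at hg ⊢
    exact HasMat.ub_third (hasMat_psu rfl (e g)) hr hrp hg hn hc

/-- the orders divisible by a prime of the class `n - 2` and by `q` -/
theorem third_q {p f N : ℕ} (hp : p.Prime) (hf : 1 ≤ f) (hx : x.natAbs = p ^ f) (hq : 3 ≤ p ^ f) (hn : 3 ≤ n)
    (hN : p ^ f ∣ N) (h : N ∣ p * ua x (n - 2) ∨ N ∣ ua x (n - 2) * (x + 1).natAbs) :
    N ∣ x.natAbs * ua x (n - 2) := by
  have hpx : (p : ℤ) ∣ x := by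
    rw [← Int.dvd_natAbs, hx]
    exact_mod_cast dvd_pow_self p (by omega)
  have hc1 : Nat.Coprime p (ua x (n - 2)) := by
    rw [hp.coprime_iff_not_dvd]
    intro hd
    have h1 : (p : ℤ) ∣ x ^ (n - 2) - 1 := Int.natCast_dvd.2 hd
    have h2 : (p : ℤ) ∣ x ^ (n - 2) := hpx.trans (dvd_pow_self x (by omega))
    have h3 := dvd_sub h2 h1
    rw [sub_sub_cancel] at h3
    have h4 : p ∣ 1 := by exact_mod_cast h3
    exact hp.one_lt.ne' (Nat.dvd_one.1 h4)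
  have hc2 : Nat.Coprime p (x + 1).natAbs := by
    rw [hp.coprime_iff_not_dvd]
    intro hd
    have h1 : (p : ℤ) ∣ x + 1 := Int.natCast_dvd.2 hd
    have h3 := dvd_sub h1 hpx
    rw [add_sub_cancel_left] at h3
    have h4 : p ∣ 1 := by exact_mod_cast h3
    exact hp.one_lt.ne' (Nat.dvd_one.1 h4)
  rcases h with h | h
  · have h1 : p ^ f ∣ p := (Nat.Coprime.pow_left f hc1).dvd_of_dvd_mul_right (hN.trans h)
    have h2 : p ^ f = p := Nat.dvd_antisymm h1 (dvd_pow_self p (by omega))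
    rw [hx, h2]
    exact h
  · exfalso
    have h1 := (Nat.Coprime.pow_left f hc1).dvd_of_dvd_mul_left (hN.trans h)
    have h2 : p ∣ (x + 1).natAbs := (dvd_pow_self p (by omega)).trans h1
    exact hp.one_lt.ne' (Nat.Coprime.eq_one_of_dvd hc2 h2)

end Cfsg.Agent.R2.Spec.AA
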