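import Cfsg.Agent.R2.Spec.AA.Num
import Cfsg.Agent.R2.Spec.AA.Data

/-!
# Team T3 (S3435), packet EXO-AA (helper22)

`exo_aa` : the exotic family `ExoAA` does not occur.
-/

set_option autoImplicit false

namespace Cfsg.Agent.R2.Spec.AA

open Cfsg Cfsg.Agent.H426.LieFam Cfsg.Agent.R2.Spec Cfsg.Agent.R2.Spec.P1 Cfsg.Agent.R2.Spec.F1
open Cfsg.Agent.R2.Spec.E Cfsg.Agent.R2.Spec.X7 Cfsg.Agent.H420.QR

universe u w

/-- sizes -/
theorem size_mn {x y : ℤ} {n m : ℕ} (hx : 3 ≤ x.natAbs) (hy : 2 ≤ y.natAbs) (hxy : x.natAbs ≤ y.natAbs + 1)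
    (hm : 2 ≤ m) (heq : ua x n * (y - 1).natAbs = y.natAbs * ua y (m - 1) * (x - 1).natAbs) : m ≤ 2 * n + 3 := by
  obtain ⟨u, hu⟩ : ∃ u, u = y.natAbs := ⟨_, rfl⟩
  obtain ⟨q, hq⟩ : ∃ q, q = x.natAbs := ⟨_, rfl⟩
  have h1 := natAbs_pow_le x n
  have h2 := two_ua hy (b := m - 1) (by omega)
  have h3 : (y - 1).natAbs ≤ 2 * u := by omega
  have h4 : 2 ≤ (x - 1).natAbs := by omega
  rw [← hu] at heq h2 hy hxy
  rw [← hq] at h1 hx hxy
  have h5 : 1 ≤ q ^ n := Nat.one_le_pow _ _ (by omega)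
  have h6 : u * (2 * (2 * ua y (m - 1))) ≤ u * (2 * (4 * q ^ n)) := by
    calc u * (2 * (2 * ua y (m - 1))) = 2 * (u * ua y (m - 1) * 2) := by ring
      _ ≤ 2 * (u * ua y (m - 1) * (x - 1).natAbs) := Nat.mul_le_mul_left _ (Nat.mul_le_mul_left _ h4)
      _ = 2 * (ua x n * (y - 1).natAbs) := by rw [heq]
      _ ≤ 2 * ((2 * q ^ n) * (2 * u)) := Nat.mul_le_mul_left _ (Nat.mul_le_mul (by omega) h3)
      _ = u * (2 * (4 * q ^ n)) := by ring
  have h7 := Nat.le_of_mul_le_mul_left h6 (by omega)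
  have h8 : q ^ n ≤ u ^ (2 * n) := by
    rw [pow_mul]
    exact Nat.pow_le_pow_left (by nlinarith) n
  have h9 : 4 ≤ u ^ 2 := by nlinarith
  have h10 : u ^ (m - 1) ≤ u ^ (2 * n + 2) := by
    rw [pow_add]
    calc u ^ (m - 1) ≤ q ^ n * 4 := by omega
      _ ≤ u ^ (2 * n) * u ^ 2 := Nat.mul_le_mul h8 h9
  have h11 := (Nat.pow_le_pow_iff_right (show 1 < u by omega)).1 h10
  omega

/-- the sign `+` -/
theorem excl_plus {x y : ℤ} {n m : ℕ} (hx : 3 ≤ x.natAbs) (hy : 2 ≤ y.natAbs) (hxy : x.natAbs ≤ y.natAbs + 1)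
    (hy1 : y ≠ 1) (hn : 1 ≤ n) (hm : 10 ≤ m) (heq : (x ^ n - 1) * (y - 1) = y * (y ^ (m - 1) - 1) * (x - 1))
    (hB : ua y m ∣ ua x (n - 1) * ((y - 1).natAbs * (y - 1).natAbs)) : False := by
  have hym : y * (y ^ (m - 1) - 1) = y ^ m - y := by
    have : y ^ m = y * y ^ (m - 1) := by rw [← pow_succ']; congr 1; omega
    rw [this]; ring
  have hxn : x ^ n = x * x ^ (n - 1) := by rw [← pow_succ']; congr 1; omega
  rw [hym, hxn] at heq
  have h1 : y ^ m - 1 ∣ (x ^ (n - 1) - 1) * ((y - 1) * (y - 1)) := by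
    apply Int.natAbs_dvd_natAbs.1
    rw [Int.natAbs_mul, Int.natAbs_mul]
    exact hB
  have h2 : y ^ m - 1 ∣ 2 * (x - 1) * ((y - 1) * (y - 1)) := by
    have h3 : 2 * (x - 1) * ((y - 1) * (y - 1)) =
        (y ^ m - 1) * ((x - 1) * (y - 1)) - x * ((x ^ (n - 1) - 1) * ((y - 1) * (y - 1))) := by
      linear_combination (y - 1) * heq
    rw [h3]
    exact dvd_sub (dvd_mul_right _ _) (h1.mul_left _)
  have hx1 : x - 1 ≠ 0 := by omega
  have hy1' : y - 1 ≠ 0 := sub_ne_zero.2 hy1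
  have h3 := Nat.le_of_dvd (Int.natAbs_pos.2 (mul_ne_zero (mul_ne_zero two_ne_zero hx1) (mul_ne_zero hy1' hy1')))
    (Int.natAbs_dvd_natAbs.2 h2)
  rw [Int.natAbs_mul, Int.natAbs_mul, Int.natAbs_mul] at h3
  have h4 := le_ua y m
  rw [ua] at h4
  obtain ⟨u, hu⟩ : ∃ u, u = y.natAbs := ⟨_, rfl⟩
  have h5 : (y - 1).natAbs ≤ 2 * u := by omega
  have h6 : (x - 1).natAbs ≤ 2 * u := by omega
  rw [← hu] at h4 hy
  have h7 : (2 : ℤ).natAbs * (x - 1).natAbs * ((y - 1).natAbs * (y - 1).natAbs) ≤ 2 * (2 * u) * ((2 * u) * (2 * u)) :=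
    Nat.mul_le_mul (Nat.mul_le_mul le_rfl h6) (Nat.mul_le_mul h5 h5)
  have h8 : 2 * (2 * u) * ((2 * u) * (2 * u)) = 16 * u ^ 3 := by ring
  have h9 : u ^ 10 ≤ u ^ m := Nat.pow_le_pow_right (by omega) hm
  have h10 : u ^ 10 = u ^ 7 * u ^ 3 := by ring
  have h11 : 2 ^ 7 ≤ u ^ 7 := Nat.pow_le_pow_left hy 7
  have h12 : 2 ^ 7 * u ^ 3 ≤ u ^ 7 * u ^ 3 := Nat.mul_le_mul_right _ h11
  have h13 : 1 ≤ u ^ 3 := Nat.one_le_pow _ _ (by omega)
  norm_num at h12
  omega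

variable {t t' : Fam} {p f n m v f' : ℕ} {x y : ℤ}

/-- the numbers -/
theorem exo_num (hx : IsAA t n (p ^ f) x) (hy : IsAA t' m (v ^ f') y) (hn : 2 ≤ n) (hm2 : 2 ≤ m) (hq : 2 ≤ p ^ f)
    (hu : 2 ≤ v ^ f') (hym : (y - 1).natAbs ∣ m) {A B : ℕ}
    (h1 : ttor t (p ^ f) n = A * ttor t' (v ^ f') (m - 1)) (h2 : ttor t (p ^ f) (n - 1) = B * ttor t' (v ^ f') m)
    (h3 : v ^ f' = dgL t (p ^ f) * A) :
    ua x n * (y - 1).natAbs = y.natAbs * ua y (m - 1) * (x - 1).natAbs ∧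
      ua y m ∣ ua x (n - 1) * ((y - 1).natAbs * (y - 1).natAbs) := by
  obtain ⟨V1, V2⟩ := hx.val hn hq
  obtain ⟨W1, W2⟩ := hy.val hm2 hu
  rw [Nat.gcd_eq_right hym] at W1 W2
  rw [hx.dgL_eq (by omega)] at h3
  rw [hy.abs_eq, h3, ← V1, ← V2, ← W1, ← W2, h1, h2]
  exact ⟨by ring, ⟨B * Nat.gcd n (x - 1).natAbs, by ring⟩⟩

variable {L : Type w} [Group L] [Finite L] {G : Type u} [Group G] [Finite G] {K : Subgroup G} [K.Normal]
  {S : Subgroup (G ⧸ K)} [S.Normal]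

/-- the third class -/
theorem exists_third (h : LS t p f L G) (his : Fam.Is p f L t) (hR : Red G K S) (hF : Frm G K S t' v f')
    (hx : IsAA t n (p ^ f) x) (hy : IsAA t' m (v ^ f') y) (hn : 9 ≤ n) (hm : 5 ≤ m) (hq : 3 ≤ p ^ f)
    (hqy : p ^ f ∣ (y - 1).natAbs) (hym : (y - 1).natAbs ∣ m) (hmn : m < 3 * (n - 1))
    (hs : ∀ e, e = m ∨ e + 1 = m → ∃ s : ℕ, s.Prime ∧ s ∣ Nat.card S ∧ cls t' (v ^ f') s = e ∧
      (cls t (p ^ f) s = n ∨ cls t (p ^ f) s + 1 = n)) :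
    ∃ k, 1 ≤ k ∧ k + 2 ≤ m ∧ ua y k ∣ x.natAbs * ua x (n - 2) ∧
      ∀ b, 1 ≤ b → k + b + 2 ≤ m → ua y b ∣ x.natAbs * ua x (n - 2) := by
  have h5 := hx.five hn
  have hfo : FldOk t (p ^ f) := hx.fldOk hq
  have hbig : Big t (n - 2) := hx.bigI (by omega) (by omega) (by omega)
  have hf1 := h.fpos
  obtain ⟨z, hz, hzc⟩ := exists_cls (t := t) (q := p ^ f) (i := n - 2) (by omega) (by omega) (by omega)
  obtain ⟨-, hzS⟩ := h.good_big hR hF h5 hfo hbig hz hzc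
  have hzv : z ≠ v := h.big_ne_v hR hF h5 hfo hbig hz hzc
  have hzI : In t (p ^ f) (n - 2) z := ⟨hz, hzc, by omega, hx.mem_iff.2 (by omega)⟩
  have hzp : z ≠ p := fun hzp => hzI.not_dvd hf1 (by rw [hzp])
  have hvp := hF.prime
  have hvz : ¬ z ∣ v := fun hd => hzv ((Nat.prime_dvd_prime_iff_eq hz hvp).1 hd)
  have hf0 : f' ≠ 0 := hF.f_ne
  have hu2 : 2 ≤ v ^ f' := hvp.two_le.trans (Nat.le_self_pow hf0 _)
  -- nonadjacency
  have hna : ∀ e s, (e = m ∨ e + 1 = m) → s.Prime → s ∣ Nat.card S → cls t' (v ^ f') s = e →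
      (cls t (p ^ f) s = n ∨ cls t (p ^ f) s + 1 = n) → z ≠ s ∧ ¬ ∃ g : S, orderOf g = z * s := by
    intro e s _ hsp _ _ hsl
    have hsI : In t (p ^ f) (cls t (p ^ f) s) s := ⟨hsp, rfl, by omega, hx.mem_iff.2 (by omega)⟩
    have hne := hzI.ne hsI (by omega)
    refine ⟨hne, fun hg => (h.adj_iff hzI hsI hne).1 (exists_of_S hg) (hx.na_iff.2 ⟨by omega, ?_, ?_⟩)⟩
    · intro hd
      rcases hsl with hsl | hsl
      · rw [hsl] at hd
        have h1 : n - 2 ∣ n - (n - 2) := Nat.dvd_sub hd dvd_rfl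
        have := Nat.le_of_dvd (by omega) h1
        omega
      · have h1 : n - 2 ∣ cls t (p ^ f) s - (n - 2) := Nat.dvd_sub hd dvd_rfl
        have := Nat.le_of_dvd (by omega) h1
        omega
    · intro hd
      have := Nat.le_of_dvd (by omega) hd
      omega
  have hSF := adjFacts hF.cla hvp hF.is
  have hfz := Fact.mk hz
  -- the class of `z` in `S`
  have hyz : ((y : ℤ) : ZMod z) ≠ 0 := by
    rw [Ne, ZMod.intCast_zmod_eq_zero_iff_dvd, Int.natCast_dvd, hy.abs_eq]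
    exact fun hd => hvz (hz.dvd_of_dvd_pow hd)
  have hc1 : 1 ≤ cls t' (v ^ f') z := by
    rw [hy.cls_eq]
    exact orderOf_pos_iff.2 (isOfFinOrder_iff_pow_eq_one.2 ⟨z - 1, by have := hz.two_le; omega,
      ZMod.pow_card_sub_one_eq_one hyz⟩)
  have hcd : ∀ a, z ∣ ua y a ↔ cls t' (v ^ f') z ∣ a := fun a => by rw [hy.cls_eq, dvd_ua_iff]
  have hYu := hcd 1
  rw [ua_one] at hYu
  rcases Nat.lt_or_ge (cls t' (v ^ f') z) 3 with hc3 | hc3
  · exfalso
    rcases (show cls t' (v ^ f') z = 1 ∨ cls t' (v ^ f') z = 2 by omega) with hc | hc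
    · -- class 1
      rw [hc] at hYu
      have h1 : z ∣ (y - 1).natAbs := hYu.2 dvd_rfl
      have h2 : Nat.Coprime (p ^ f) z := Nat.Coprime.pow_left _ ((Nat.coprime_primes h.prime hz).2 hzp.symm)
      have h3 : p ^ f * z ∣ m := (h2.mul_dvd_of_dvd_of_dvd hqy h1).trans hym
      have h4 := Nat.le_of_dvd (by omega) h3
      have h6 := (cls_facts (t := t) hz (by rw [hzc]; omega)).2.2
      rw [hzc] at h6
      have h7 : 3 * (n - 1) ≤ p ^ f * z := Nat.mul_le_mul hq (by omega)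
      omega
    · -- class 2
      rw [hc] at hYu hcd
      have h1 : ¬ z ∣ (y - 1).natAbs := fun hd => by
        have := Nat.le_of_dvd (by norm_num) (hYu.1 hd)
        omega
      obtain ⟨e, he, he2⟩ : ∃ e, (e = m ∨ e + 1 = m) ∧ 2 ∣ e := by
        rcases Nat.even_or_odd m with hm2 | hm2
        · exact ⟨m, Or.inl rfl, hm2.two_dvd⟩
        · exact ⟨m - 1, Or.inr (by omega), by obtain ⟨k, hk⟩ := hm2; omega⟩
      obtain ⟨s, hsp, hsS, hse, hsl⟩ := hs e he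
      obtain ⟨hne, hna1⟩ := hna e s he hsp hsS hse hsl
      have htop : top t' e := hy.top_iff.2 ⟨by omega, he⟩
      obtain ⟨g, hg⟩ := (top_facts_all hF.cla hvp hF.is).elt e htop
      have hfs := Fact.mk hsp
      have hds : ∀ a, s ∣ ua y a ↔ e ∣ a := fun a => by rw [← hse, hy.cls_eq, dvd_ua_iff]
      have hs1 : ¬ s ∣ (y - 1).natAbs := fun hd => by
        have h7 := (hds 1).1 (by rw [ua_one]; exact hd)
        have := Nat.le_of_dvd (by norm_num) h7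
        omega
      -- a prime not dividing `y - 1` divides the number
      have key : ∀ r : ℕ, r.Prime → ¬ r ∣ (y - 1).natAbs → r ∣ ua y e → r ∣ ttor t' (v ^ f') e := by
        intro r hr hr1 hre
        obtain ⟨W1, W2⟩ := hy.val (by omega) hu2
        rcases he with he | he
        · rw [he] at hre ⊢
          rw [← W1] at hre
          rcases hr.dvd_mul.1 hre with h8 | h8
          · exact h8
          · rcases hr.dvd_mul.1 h8 with h9 | h9
            · exact absurd (h9.trans (Nat.gcd_dvd_right _ _)) hr1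
            · exact absurd h9 hr1
        · obtain rfl : e = m - 1 := by omega
          rw [← W2] at hre
          rcases hr.dvd_mul.1 hre with h8 | h8
          · exact h8
          · exact absurd (h8.trans (Nat.gcd_dvd_right _ _)) hr1
      have h8 := key z hz h1 ((hcd e).2 he2)
      have h9 := key s hsp hs1 ((hds e).2 dvd_rfl)
      have h10 : z * s ∣ orderOf g := by
        rw [hg]
        exact ((Nat.coprime_primes hz hsp).2 hne).mul_dvd_of_dvd_of_dvd h8 h9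
      exact hna1 (P1.exists_of_dvd h10)
  · have hz2 : z ≠ 2 := hzI.ne_two
    have hmem := (hSF.dvd z hz hz2 hvz hc3).1 hzS
    have hcm : cls t' (v ^ f') z ≤ m := hy.mem_iff.1 hmem
    have hnot : ∀ e, (e = m ∨ e + 1 = m) → ¬ cls t' (v ^ f') z ∣ e := by
      intro e he hd
      obtain ⟨s, hsp, hsS, hse, hsl⟩ := hs e he
      obtain ⟨hne, hna1⟩ := hna e s he hsp hsS hse hsl
      apply hna1
      have hsI : In t (p ^ f) (cls t (p ^ f) s) s := ⟨hsp, rfl, by omega, hx.mem_iff.2 (by omega)⟩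
      have he3 : 3 ≤ cls t' (v ^ f') s := by omega
      have hsv : ¬ s ∣ v := fun hd => (cls_facts hsp he3).2.1 (hd.trans (dvd_pow_self v hf0))
      refine (hSF.adj z s hz hsp hz2 hsI.ne_two hne hvz hsv hc3 he3 hmem
        ((hSF.dvd s hsp hsI.ne_two hsv he3).1 hsS)).2 fun hn1 => ?_
      exact (hy.na_iff.1 hn1).2.1 (by rw [hse]; exact hd)
    have hk2 : cls t' (v ^ f') z + 2 ≤ m := by
      have h1 := hnot m (Or.inl rfl)
      have h2 := hnot (m - 1) (Or.inr (by omega))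
      have h3 : cls t' (v ^ f') z ≠ m := fun h0 => h1 (by rw [h0])
      have h4 : cls t' (v ^ f') z ≠ m - 1 := fun h0 => h2 (by rw [h0])
      omega
    have hzk : z ∣ ua y (cls t' (v ^ f') z) := (hcd _).2 dvd_rfl
    have hqk : p ^ f ∣ ua y (cls t' (v ^ f') z) := hqy.trans (dvd_ua y _)
    have fin : ∀ N, (∃ g : S, orderOf g = N) → z ∣ N → p ^ f ∣ N → N ∣ x.natAbs * ua x (n - 2) := by
      intro N hN hzN hqN
      obtain ⟨g, rfl⟩ := (h.ord N).1 (exists_of_S hN)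
      exact third_q h.prime hf1 hx.abs_eq hq (by omega) hqN
        (hx.ub_third h.prime his (by omega) hz hzp (by omega) hzN)
    refine ⟨_, hc1, hk2, fin _ (hy.tor_one hF.is (by omega) hc1 hk2) hzk hqk, fun b hb hkb => ?_⟩
    refine (Nat.dvd_lcm_right (ua y (cls t' (v ^ f') z)) _).trans
      (fin _ (hy.tor hF.is (by omega) hc1 hb hkb) (hzk.trans (Nat.dvd_lcm_left _ _)) (hqk.trans (Nat.dvd_lcm_left _ _)))

/-- **The exotic family `AA` does not occur.** -/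
theorem exo_aa (h : LS t p f L G) (his : Fam.Is p f L t) (hR : Red G K S) (hF : Frm G K S t' v f') (hn7 : 7 ≤ rk t)
    {i j i' j' w H H' : ℕ} (D : Duel t p f i j t' v f' i' j' w H S)
    (hH' : ttor t (p ^ f) j = H' * ttor t' (v ^ f') j') (hE : ExoAA t (p ^ f) t' (v ^ f') i j i' j' H H') : False := by
  obtain ⟨n, m, ht, ht', hqd, hmd, hcase⟩ := hE
  obtain ⟨x, hx⟩ : ∃ x : ℤ, IsAA t n (p ^ f) x := by
    rcases ht with ht | ht
    · exact ⟨_, Or.inl ⟨ht, rfl⟩⟩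
    · exact ⟨_, Or.inr ⟨ht, rfl⟩⟩
  obtain ⟨y, hy⟩ : ∃ y : ℤ, IsAA t' m (v ^ f') y := by
    rcases ht' with ht | ht
    · exact ⟨_, Or.inl ⟨ht, rfl⟩⟩
    · exact ⟨_, Or.inr ⟨ht, rfl⟩⟩
  rw [hx.rk_eq] at hn7
  have hf1 := h.fpos
  have hf1' := D.f'_pos
  have hp3 : 3 ≤ p := by
    have := h.prime.two_le
    have := D.p_ne
    omega
  have hq3 : 3 ≤ p ^ f := hp3.trans (Nat.le_self_pow (by omega) p)
  have hu2 : 2 ≤ v ^ f' := D.v_prime.two_le.trans (Nat.le_self_pow (by omega) _)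
  rw [hy.usg_eq (by omega)] at hqd hmd
  have hm2 := hy.le hF.is
  have hyu := hy.abs_eq
  have hxq := hx.abs_eq
  have hy1 : y ≠ 1 := by
    rintro rfl
    simp at hyu
    omega
  have hY0 : 0 < (y - 1).natAbs := Int.natAbs_pos.2 (sub_ne_zero.2 hy1)
  have hqY := Nat.le_of_dvd hY0 hqd
  have hYm := Nat.le_of_dvd (by omega) hmd
  have hqu : x.natAbs ≤ y.natAbs + 1 := by omega
  -- the primes of the two classes
  have hreg : ∀ l, l = n ∨ l + 1 = n → 3 ≤ l := by intro l hl; omega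
  have hex : ∀ l, l = n ∨ l + 1 = n → ∃ r : ℕ, r.Prime ∧ cls t (p ^ f) r = l := fun l hl =>
    exists_cls (by omega) (hreg l hl) (by omega)
  -- the numbers
  have hnum : ua x n * (y - 1).natAbs = y.natAbs * ua y (m - 1) * (x - 1).natAbs ∧
      ua y m ∣ ua x (n - 1) * ((y - 1).natAbs * (y - 1).natAbs) := by
    have heM := D.eqM
    rcases hcase with ⟨h1, h2, h3, h4, h5⟩ | ⟨h1, h2, h3, h4, h5⟩
    · obtain rfl : j = n - 1 := by omega
      obtain rfl : i' = m - 1 := by omega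
      rw [h1] at heM
      rw [h4] at hH'
      exact exo_num hx hy (by omega) hm2 (by omega) hu2 hmd heM hH' h5
    · obtain rfl : i = n - 1 := by omega
      obtain rfl : j' = m - 1 := by omega
      rw [h3] at heM
      rw [h2] at hH'
      exact exo_num hx hy (by omega) hm2 (by omega) hu2 hmd hH' heM h5
  obtain ⟨hA, hB⟩ := hnum
  have hmn := size_mn (by omega) (by omega) hqu hm2 hA
  have hxy : x ∣ y - 1 := Int.natAbs_dvd_natAbs.1 (by rw [hxq]; exact hqd)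
  have hx2 : x.natAbs % 2 = 1 := by
    rw [hxq]
    have hodd : Odd p := h.prime.odd_of_ne_two D.p_ne
    exact Nat.odd_iff.1 (hodd.pow)
  obtain ⟨e, he, heq⟩ : ∃ e : ℤ, (e = 1 ∨ e = -1) ∧ (x ^ n - 1) * (y - 1) = e * (y * (y ^ (m - 1) - 1)) * (x - 1) := by
    have h1 : ((x ^ n - 1) * (y - 1)).natAbs = (y * (y ^ (m - 1) - 1) * (x - 1)).natAbs := by
      rw [Int.natAbs_mul, Int.natAbs_mul, Int.natAbs_mul]
      exact hA
    rcases Int.natAbs_eq_natAbs_iff.1 h1 with h2 | h2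
    · exact ⟨1, Or.inl rfl, by rw [h2]; ring⟩
    · exact ⟨-1, Or.inr rfl, by rw [h2]; ring⟩
  have hm60 := small (by omega) (by omega) (by omega) hx2 hxy hmd hy1 he heq
  rcases he with rfl | rfl
  · exact excl_plus (by omega) (by omega) hqu hy1 (by omega) (by omega) (by rw [heq]; ring) hB
  · have hs : ∀ e, e = m ∨ e + 1 = m → ∃ s : ℕ, s.Prime ∧ s ∣ Nat.card S ∧ cls t' (v ^ f') s = e ∧
        (cls t (p ^ f) s = n ∨ cls t (p ^ f) s + 1 = n) := by
      intro e he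
      rcases hcase with ⟨h1, h2, h3, h4, h5⟩ | ⟨h1, h2, h3, h4, h5⟩
      · rcases he with he | he
        · exact ⟨w, D.w_prime, D.wS, by rw [D.clsw']; omega, Or.inr (by rw [D.clsw]; exact h2)⟩
        · obtain ⟨r, hr, hrc⟩ := hex i (Or.inl h1)
          obtain ⟨h6, h7⟩ := D.primi r hr hrc
          exact ⟨r, hr, h6, by rw [h7]; omega, Or.inl (by rw [hrc]; exact h1)⟩
      · rcases he with he | he
        · obtain ⟨r, hr, hrc⟩ := hex i (Or.inr h1)
          obtain ⟨h6, h7⟩ := D.primi r hr hrc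
          exact ⟨r, hr, h6, by rw [h7]; omega, Or.inr (by rw [hrc]; exact h1)⟩
        · exact ⟨w, D.w_prime, D.wS, by rw [D.clsw']; omega, Or.inl (by rw [D.clsw]; exact h2)⟩
    obtain ⟨k, hk1, hk2, hT, hB'⟩ := exists_third h his hR hF hx hy (by omega) (by omega) hq3 hqd hmd (by omega) hs
    exact big (by omega) (by omega) hxy hy1 (by omega) hk1 hk2 hm60 (by rw [heq]; ring) hT hB'

end Cfsg.Agent.R2.Spec.AA
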