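import Cfsg.Agent.R2.Spec.AA.Third

/-!
# Team T3 (S3435), packet EXO-AA: the numbers (helper22)

`x = ± q`, `y = ± u`, `(x^n - 1) (y - 1) = - y (y^(m-1) - 1) (x - 1)`, `y - 1 ∣ m`, `x ∣ y - 1`.

* `small` : `m < 60` is impossible if `6 ≤ n`;
* `zero_case`, `k_le`, `big` : `60 ≤ m` and a third class `k`.
-/

set_option autoImplicit false

namespace Cfsg.Agent.R2.Spec.AA

open Cfsg.Agent.R2.Spec.X7

/-! ### small `m` -/

/-- the test: `x ^ 6` does not divide `1 ± y Y (x - 1)` -/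
def tst (m D q : ℕ) : Bool :=
  [((D : ℤ) + 1), 1 - (D : ℤ)].all fun y => [(q : ℤ), -(q : ℤ)].all fun x => [(1 : ℤ), -1].all fun e =>
    !decide ((1 + e * (y * ((y ^ (m - 1) - 1) / (y - 1))) * (x - 1)) % x ^ 6 = 0)

def tstAll : Bool :=
  (List.range 60).all fun m => (List.range (m + 1)).all fun D =>
    !(decide (3 ≤ m) && decide (3 ≤ D) && decide (m % D = 0)) || (List.range (D + 1)).all fun q =>
      !(decide (3 ≤ q) && decide (D % q = 0)) || decide (q % 2 = 0) || tst m D q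

theorem tstAll_true : tstAll = true := by decide +kernel

theorem tst_of {m D q : ℕ} (hm : m < 60) (hm3 : 3 ≤ m) (hD : 3 ≤ D) (hDm : D ∣ m) (hq : 3 ≤ q) (hqD : q ∣ D)
    (hq2 : q % 2 = 1) : tst m D q = true := by
  have h := tstAll_true
  rw [tstAll, List.all_eq_true] at h
  have h1 := h m (List.mem_range.2 hm)
  rw [List.all_eq_true] at h1
  have h2 := h1 D (List.mem_range.2 (by have := Nat.le_of_dvd (by omega) hDm; omega))
  rw [Bool.or_eq_true, Bool.not_eq_true', Bool.and_eq_false_iff, Bool.and_eq_false_iff] at h2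
  rcases h2 with ((h2 | h2) | h2) | h2
  · exact absurd hm3 (of_decide_eq_false h2)
  · exact absurd hD (of_decide_eq_false h2)
  · exact absurd (Nat.mod_eq_zero_of_dvd hDm) (of_decide_eq_false h2)
  · rw [List.all_eq_true] at h2
    have h3 := h2 q (List.mem_range.2 (by have := Nat.le_of_dvd (by omega) hqD; omega))
    rw [Bool.or_eq_true, Bool.or_eq_true, Bool.not_eq_true', Bool.and_eq_false_iff] at h3
    rcases h3 with ((h3 | h3) | h3) | h3
    · exact absurd hq (of_decide_eq_false h3)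
    · exact absurd (Nat.mod_eq_zero_of_dvd hqD) (of_decide_eq_false h3)
    · have := of_decide_eq_true h3
      omega
    · exact h3

/-- **Small `m`.** -/
theorem small {x y e : ℤ} {n m : ℕ} (hn : 6 ≤ n) (hm3 : 3 ≤ m) (hx : 3 ≤ x.natAbs) (hx2 : x.natAbs % 2 = 1)
    (hxy : x ∣ y - 1) (hym : (y - 1).natAbs ∣ m) (hy1 : y ≠ 1) (he : e = 1 ∨ e = -1)
    (heq : (x ^ n - 1) * (y - 1) = e * (y * (y ^ (m - 1) - 1)) * (x - 1)) : 60 ≤ m := by
  by_contra hm
  have hD : x.natAbs ∣ (y - 1).natAbs := Int.natAbs_dvd_natAbs.2 hxy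
  have hD0 : 0 < (y - 1).natAbs := by omega
  have hD3 : 3 ≤ (y - 1).natAbs := hx.trans (Nat.le_of_dvd hD0 hD)
  have h1 := tst_of (by omega) hm3 hD3 hym hx hD hx2
  obtain ⟨Y, hY⟩ : y - 1 ∣ y ^ (m - 1) - 1 := by simpa using sub_dvd_pow_sub_pow y 1 (m - 1)
  have hy0 : y - 1 ≠ 0 := sub_ne_zero.2 hy1
  have h2 : x ^ n - 1 = e * (y * Y) * (x - 1) := by
    apply mul_right_cancel₀ hy0
    rw [heq, hY]
    ring
  have h3 : (y ^ (m - 1) - 1) / (y - 1) = Y := by rw [hY]; exact Int.mul_ediv_cancel_left _ hy0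
  have h4 : (1 + e * (y * ((y ^ (m - 1) - 1) / (y - 1))) * (x - 1)) % x ^ 6 = 0 := by
    rw [h3, ← h2]
    apply Int.emod_eq_zero_of_dvd
    rw [show 1 + (x ^ n - 1) = x ^ n by ring]
    exact pow_dvd_pow x hn
  rw [tst, List.all_eq_true] at h1
  have h5 : y ∈ [((((y - 1).natAbs : ℕ) : ℤ) + 1), 1 - (((y - 1).natAbs : ℕ) : ℤ)] := by
    rw [List.mem_cons, List.mem_singleton]
    omega
  have h6 := h1 y h5
  rw [List.all_eq_true] at h6
  have h7 : x ∈ [((x.natAbs : ℕ) : ℤ), -((x.natAbs : ℕ) : ℤ)] := by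
    rw [List.mem_cons, List.mem_singleton]
    omega
  have h8 := h6 x h7
  rw [List.all_eq_true] at h8
  have h9 : e ∈ [(1 : ℤ), -1] := by
    rw [List.mem_cons, List.mem_singleton]
    exact he
  have h10 := h8 e h9
  rw [Bool.not_eq_true'] at h10
  exact of_decide_eq_false h10 h4

/-! ### `x = -3`, `y = -2` -/

theorem zmod_case : ∀ i < 16, ∀ j < 16, (-3 : ZMod 64) ^ j = 5 → (-3 : ZMod 17) ^ j - (-2) ^ i ≠ 5 := by
  decide +kernel

theorem three_two {a b : ℕ} (hb : 6 ≤ b) (h : (-3 : ℤ) ^ a - (-2) ^ b = 5) : False := by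
  have h1 : (-3 : ZMod 64) ^ a = 5 := by
    have h2 := congrArg (Int.cast : ℤ → ZMod 64) h
    push_cast at h2
    have h3 : (-2 : ZMod 64) ^ b = 0 := by
      obtain ⟨c, rfl⟩ := Nat.exists_eq_add_of_le hb
      rw [pow_add, show (-2 : ZMod 64) ^ 6 = 0 by decide, zero_mul]
    rw [h3, sub_zero] at h2
    exact h2
  have h4 : (-3 : ZMod 17) ^ a - (-2) ^ b = 5 := by
    have h2 := congrArg (Int.cast : ℤ → ZMod 17) h
    push_cast at h2
    exact h2
  have h5 : (-3 : ZMod 64) ^ a = (-3) ^ (a % 16) := by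
    conv_lhs => rw [← Nat.div_add_mod a 16, pow_add, pow_mul, show (-3 : ZMod 64) ^ 16 = 1 by decide, one_pow, one_mul]
  have h6 : (-3 : ZMod 17) ^ a = (-3) ^ (a % 16) := by
    conv_lhs => rw [← Nat.div_add_mod a 16, pow_add, pow_mul, show (-3 : ZMod 17) ^ 16 = 1 by decide, one_pow, one_mul]
  have h7 : (-2 : ZMod 17) ^ b = (-2) ^ (b % 16) := by
    conv_lhs => rw [← Nat.div_add_mod b 16, pow_add, pow_mul, show (-2 : ZMod 17) ^ 16 = 1 by decide, one_pow, one_mul]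
  rw [h5] at h1
  rw [h6, h7] at h4
  exact zmod_case _ (Nat.mod_lt _ (by norm_num)) _ (Nat.mod_lt _ (by norm_num)) h1 h4

/-! ### estimates -/

theorem natAbs_pow_le (y : ℤ) (b : ℕ) : ua y b ≤ y.natAbs ^ b + 1 := by
  have h1 := Int.natAbs_sub_le (y ^ b) 1
  rw [Int.natAbs_pow, Int.natAbs_one] at h1
  exact h1

theorem le_ua (y : ℤ) (b : ℕ) : y.natAbs ^ b ≤ ua y b + 1 := by
  have h1 := Int.natAbs_add_le (y ^ b - 1) 1
  rw [sub_add_cancel, Int.natAbs_pow, Int.natAbs_one] at h1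
  exact h1

theorem two_ua {y : ℤ} (hy : 2 ≤ y.natAbs) {b : ℕ} (hb : 1 ≤ b) : y.natAbs ^ b ≤ 2 * ua y b := by
  have h1 := le_ua y b
  have h2 : 2 ≤ y.natAbs ^ b := hy.trans (Nat.le_self_pow (by omega) _)
  omega

/-- the zero case -/
theorem zero_case {x y : ℤ} {e : ℕ} (hx : 3 ≤ x.natAbs) (hy : 2 ≤ y.natAbs) (hxy : x ∣ y - 1) (hy1 : y ≠ 1) (he : 2 ≤ e)
    (h0 : x * (y - 1) + y ^ e - 1 = 0) : x = -3 ∧ y = -2 := by
  have hD : x.natAbs ∣ (y - 1).natAbs := Int.natAbs_dvd_natAbs.2 hxy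
  have hD0 : 0 < (y - 1).natAbs := by omega
  have hxle := Nat.le_of_dvd hD0 hD
  have h1 : x.natAbs * (y - 1).natAbs = ua y e := by
    rw [← Int.natAbs_mul, ua, show y ^ e - 1 = -(x * (y - 1)) by linear_combination h0, Int.natAbs_neg]
  have h2 := le_ua y e
  rw [← h1] at h2
  have h3 : (y - 1).natAbs ≤ y.natAbs + 1 := by omega
  obtain ⟨u, hu⟩ : ∃ u, u = y.natAbs := ⟨_, rfl⟩
  rw [← hu] at h2 h3 hy
  have h4 : x.natAbs * (y - 1).natAbs ≤ (u + 1) * (u + 1) := Nat.mul_le_mul (hxle.trans h3) h3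
  rcases Nat.lt_or_ge e 3 with he3 | he3
  · have he2 : e = 2 := by omega
    subst he2
    exfalso
    -- `(y - 1) (x + y + 1) = 0`
    have h5 : (y - 1) * (x + y + 1) = 0 := by linear_combination h0
    rcases mul_eq_zero.1 h5 with h6 | h6
    · exact hy1 (by linarith)
    · have h7 : x = -(y + 1) := by linarith
      have h8 : (y + 1) ∣ 2 := by
        have h9 : (y + 1) ∣ y - 1 := by rw [h7] at hxy; exact (neg_dvd).1 hxy
        have h10 := dvd_sub (dvd_refl (y + 1)) h9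
        rwa [show y + 1 - (y - 1) = 2 by ring] at h10
      have h11 : (y + 1).natAbs ≤ 2 := Nat.le_of_dvd (by norm_num) (Int.natAbs_dvd_natAbs.2 h8)
      rw [h7, Int.natAbs_neg] at hx
      omega
  · have h5 : u ^ 3 ≤ u ^ e := Nat.pow_le_pow_right (by omega) he3
    have h6 : u ^ 3 ≤ (u + 1) * (u + 1) + 1 := by omega
    have h7 : u = 2 := by
      by_contra hne
      have h8 : 3 ≤ u := by omega
      have h9 : 3 * u * u ≤ u ^ 3 := by
        rw [pow_succ, pow_two]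
        calc 3 * u * u = (u * u) * 3 := by ring
          _ ≤ (u * u) * u := Nat.mul_le_mul_left _ h8
      nlinarith
    have hy2 : y = 2 ∨ y = -2 := by omega
    rcases hy2 with rfl | rfl
    · norm_num at hxle
      omega
    · have h8 : x.natAbs = 3 := by
        norm_num at hxle
        omega
      rw [h8] at h1
      have h9 : ua (-2) e = 9 := by rw [← h1]; norm_num
      have h10 : e = 3 := by
        by_contra hne
        have h11 := le_ua (-2) e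
        rw [h9] at h11
        have h12 : 2 ^ 4 ≤ 2 ^ e := Nat.pow_le_pow_right (by norm_num) (by omega)
        norm_num at h11 h12
        omega
      subst h10
      refine ⟨?_, rfl⟩
      norm_num at h0
      linarith

/-- the bound for the third class -/
theorem k_le {x y : ℤ} {n m k : ℕ} (hx : 3 ≤ x.natAbs) (hy : 2 ≤ y.natAbs) (hxy : x ∣ y - 1) (hy1 : y ≠ 1)
    (hn : 2 ≤ n) (hk : 1 ≤ k) (hkm : k + 2 ≤ m) (hm : 6 ≤ m)
    (heq : (x ^ n - 1) * (y - 1) = -(y * (y ^ (m - 1) - 1)) * (x - 1))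
    (hT : ua y k ∣ x.natAbs * ua x (n - 2)) : 2 * k ≤ m + 5 := by
  obtain ⟨e, rfl⟩ : ∃ e, m = k + e := ⟨m - k, by omega⟩
  have hD : x.natAbs ∣ (y - 1).natAbs := Int.natAbs_dvd_natAbs.2 hxy
  have hD0 : 0 < (y - 1).natAbs := by omega
  have hxle := Nat.le_of_dvd hD0 hD
  have h3 : (y - 1).natAbs ≤ y.natAbs + 1 := by omega
  obtain ⟨T1, hT1⟩ : x.natAbs ∣ ua y k := hD.trans (dvd_ua y k)
  rw [hT1] at hT
  have hT2 : T1 ∣ ua x (n - 2) := Nat.dvd_of_mul_dvd_mul_left (by omega) hT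
  have hd1 : (T1 : ℤ) ∣ x ^ (n - 2) - 1 := Int.natCast_dvd.2 hT2
  have hd2 : (T1 : ℤ) ∣ y ^ k - 1 := Int.natCast_dvd.2 (by
    show T1 ∣ ua y k
    rw [hT1]; exact dvd_mul_left _ _)
  -- the congruence
  have hym : y * (y ^ (k + e - 1) - 1) = y ^ (k + e) - y := by
    have : y ^ (k + e) = y * y ^ (k + e - 1) := by rw [← pow_succ']; congr 1; omega
    rw [this]; ring
  rw [hym] at heq
  have hxn : x ^ n = x ^ 2 * x ^ (n - 2) := by rw [← pow_add]; congr 1; omega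
  have h5 : (T1 : ℤ) ∣ (x - 1) * (x * (y - 1) + y ^ e - 1) := by
    have h6 : (x - 1) * (x * (y - 1) + y ^ e - 1) =
        -(y - 1) * x ^ 2 * (x ^ (n - 2) - 1) - (x - 1) * y ^ e * (y ^ k - 1) := by
      rw [hxn, pow_add] at heq
      linear_combination heq
    rw [h6]
    exact dvd_sub (hd1.mul_left _) (hd2.mul_left _)
  by_cases h0 : x * (y - 1) + y ^ e - 1 = 0
  · obtain ⟨rfl, rfl⟩ := zero_case hx hy hxy hy1 (by omega) h0
    exfalso
    refine three_two (a := n + 1) (b := k + e + 2) (by omega) ?_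
    rw [pow_succ, pow_succ, pow_succ]
    linear_combination heq
  · have hx1 : x - 1 ≠ 0 := by omega
    have h6 := Nat.le_of_dvd (Int.natAbs_pos.2 (mul_ne_zero hx1 h0)) (Int.natCast_dvd.1 h5)
    rw [Int.natAbs_mul] at h6
    have h7 : (x * (y - 1) + y ^ e - 1).natAbs ≤ x.natAbs * (y - 1).natAbs + (y.natAbs ^ e + 1) := by
      have h8 := Int.natAbs_add_le (x * (y - 1)) (y ^ e - 1)
      rw [Int.natAbs_mul] at h8
      have h9 := natAbs_pow_le y e
      rw [ua] at h9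
      rw [show x * (y - 1) + y ^ e - 1 = x * (y - 1) + (y ^ e - 1) by ring]
      omega
    have h8 : (x - 1).natAbs ≤ x.natAbs + 1 := by omega
    obtain ⟨u, hu⟩ : ∃ u, u = y.natAbs := ⟨_, rfl⟩
    have h9 := le_ua y k
    rw [hT1] at h9
    rw [← hu] at h3 h7 h9 hy
    have hq : x.natAbs ≤ u + 1 := hxle.trans h3
    have h10 : x.natAbs * T1 ≤ (u + 1) * ((u + 2) * ((u + 1) * (u + 1) + (u ^ e + 1))) := by
      refine Nat.mul_le_mul hq (h6.trans (Nat.mul_le_mul (by omega) (h7.trans ?_)))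
      exact Nat.add_le_add_right (Nat.mul_le_mul hq h3) _
    by_contra hcon
    have hke : e + 6 ≤ k := by omega
    have h11 : u ^ (e + 6) ≤ u ^ k := Nat.pow_le_pow_right (by omega) hke
    have h12 : u ^ 2 ≤ u ^ e := Nat.pow_le_pow_right (by omega) (by omega)
    have h13 : u ^ (e + 6) = u ^ e * u ^ 4 * u ^ 2 := by rw [pow_add]; ring
    have h14 : 16 ≤ u ^ 4 := by
      calc 16 = 2 ^ 4 := by norm_num
        _ ≤ u ^ 4 := Nat.pow_le_pow_left hy 4
    have h15 : u ^ e * 16 * u ^ 2 ≤ u ^ (e + 6) := by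
      rw [h13]
      exact Nat.mul_le_mul_right _ (Nat.mul_le_mul_left _ h14)
    obtain ⟨E, hE⟩ : ∃ E, E = u ^ e := ⟨_, rfl⟩
    rw [← hE] at h10 h12 h15
    have h16 : E * 16 * u ^ 2 ≤ (u + 1) * ((u + 2) * ((u + 1) * (u + 1) + (E + 1))) + 1 := by omega
    -- `(u+1)(u+2) ≤ 3 u²`, `(u+1)² + 1 + E ≤ 4 E`
    have h17 : (u + 1) * (u + 2) ≤ 3 * u ^ 2 := by nlinarith
    have h18 : (u + 1) * (u + 1) + (E + 1) ≤ 4 * E := by nlinarith
    have h19 : (u + 1) * ((u + 2) * ((u + 1) * (u + 1) + (E + 1))) ≤ 3 * u ^ 2 * (4 * E) := by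
      rw [← mul_assoc]
      exact Nat.mul_le_mul h17 h18
    have h20 : 4 ≤ u ^ 2 := by nlinarith
    have h21 : 1 ≤ E * u ^ 2 := by nlinarith
    nlinarith

theorem lcm_three {a b c R g1 g2 g3 : ℕ} (ha : a ∣ R) (hb : b ∣ R) (hc : c ∣ R) (hR : 0 < R) (h1 : Nat.gcd a b ∣ g1)
    (h2 : Nat.gcd a c ∣ g2) (h3 : Nat.gcd b c ∣ g3) (hg1 : 0 < g1) (hg2 : 0 < g2) (hg3 : 0 < g3) :
    a * b * c ≤ g1 * (R * (g2 * g3)) := by
  have e1 : Nat.gcd a b * Nat.lcm a b = a * b := Nat.gcd_mul_lcm a b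
  have e2 : Nat.gcd (Nat.lcm a b) c * Nat.lcm (Nat.lcm a b) c = Nat.lcm a b * c := Nat.gcd_mul_lcm _ _
  have e3 : Nat.lcm (Nat.lcm a b) c ≤ R := Nat.le_of_dvd hR (Nat.lcm_dvd (Nat.lcm_dvd ha hb) hc)
  have e4 : Nat.gcd (Nat.lcm a b) c ∣ g2 * g3 := by
    have h4 : Nat.gcd (Nat.lcm a b) c ∣ Nat.gcd (a * b) c := Nat.gcd_dvd_gcd_of_dvd_left _ (Nat.lcm_dvd_mul a b)
    exact (h4.trans (Nat.gcd_mul_left_dvd_mul_gcd c a b)).trans (Nat.mul_dvd_mul h2 h3)
  have e5 := Nat.le_of_dvd (Nat.mul_pos hg2 hg3) e4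
  have e6 := Nat.le_of_dvd hg1 h1
  calc a * b * c = Nat.gcd a b * (Nat.gcd (Nat.lcm a b) c * Nat.lcm (Nat.lcm a b) c) := by rw [e2, ← mul_assoc, e1]
    _ ≤ g1 * ((g2 * g3) * R) := Nat.mul_le_mul e6 (Nat.mul_le_mul e5 e3)
    _ = _ := by ring

/-- the size of `x ^ n` -/
theorem up_x {x y : ℤ} {n m : ℕ} (hx : 3 ≤ x.natAbs) (hy : 2 ≤ y.natAbs) (hn : 1 ≤ n)
    (heq : ua x n * (y - 1).natAbs = y.natAbs * ua y (m - 1) * (x - 1).natAbs) :
    x.natAbs ^ (n - 1) ≤ 3 * (y.natAbs ^ (m - 1) + 1) := by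
  obtain ⟨u, hu⟩ : ∃ u, u = y.natAbs := ⟨_, rfl⟩
  obtain ⟨q, hq⟩ : ∃ q, q = x.natAbs := ⟨_, rfl⟩
  have h1 : u ≤ 2 * (y - 1).natAbs := by omega
  have h2 := natAbs_pow_le y (m - 1)
  have h3 : (x - 1).natAbs ≤ q + 1 := by omega
  have h4 := le_ua x n
  rw [← hu] at heq h2 hy ⊢
  rw [← hq] at h4 hx ⊢
  have h5 : u * ua x n ≤ u * (2 * ((u ^ (m - 1) + 1) * (q + 1))) := by
    calc u * ua x n ≤ 2 * (y - 1).natAbs * ua x n := Nat.mul_le_mul_right _ h1
      _ = 2 * (u * ua y (m - 1) * (x - 1).natAbs) := by rw [← heq]; ring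
      _ ≤ 2 * (u * (u ^ (m - 1) + 1) * (q + 1)) := Nat.mul_le_mul_left _ (Nat.mul_le_mul (Nat.mul_le_mul_left _ h2) h3)
      _ = _ := by ring
  have h6 := Nat.le_of_mul_le_mul_left h5 (by omega)
  have h7 : q ^ n = q * q ^ (n - 1) := by rw [← pow_succ']; congr 1; omega
  rw [h7] at h4
  obtain ⟨U, hU⟩ : ∃ U, U = u ^ (m - 1) + 1 := ⟨_, rfl⟩
  rw [← hU] at h6 ⊢
  have hU1 : 1 ≤ U := by omega
  have h8 : q * q ^ (n - 1) ≤ q * (3 * U) := by
    have h9 : q * q ^ (n - 1) ≤ 2 * (U * (q + 1)) + 1 := by omega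
    have h10 : 2 * (U * (q + 1)) + 1 ≤ 3 * (q * U) := by nlinarith
    calc q * q ^ (n - 1) ≤ 3 * (q * U) := h9.trans h10
      _ = q * (3 * U) := by ring
  exact Nat.le_of_mul_le_mul_left h8 (by omega)

/-- **Large `m`.** -/
theorem big {x y : ℤ} {n m k : ℕ} (hx : 3 ≤ x.natAbs) (hy : 2 ≤ y.natAbs) (hxy : x ∣ y - 1) (hy1 : y ≠ 1)
    (hn : 3 ≤ n) (hk : 1 ≤ k) (hkm : k + 2 ≤ m) (hm : 60 ≤ m)
    (heq : (x ^ n - 1) * (y - 1) = -(y * (y ^ (m - 1) - 1)) * (x - 1))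
    (hT : ua y k ∣ x.natAbs * ua x (n - 2))
    (hB : ∀ b, 1 ≤ b → k + b + 2 ≤ m → ua y b ∣ x.natAbs * ua x (n - 2)) : False := by
  have h1 := k_le hx hy hxy hy1 (by omega) hk hkm (by omega) heq hT
  obtain ⟨B, hB0⟩ : ∃ B, m = k + B + 2 := ⟨m - 2 - k, by omega⟩
  have hB25 : 25 ≤ B := by omega
  have hnat : ua x n * (y - 1).natAbs = y.natAbs * ua y (m - 1) * (x - 1).natAbs := by
    have h2 := congrArg Int.natAbs heq
    rw [Int.natAbs_mul, Int.natAbs_mul, Int.natAbs_neg, Int.natAbs_mul] at h2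
    exact h2
  have h3 := up_x hx hy (by omega) hnat
  have hD : x.natAbs ∣ (y - 1).natAbs := Int.natAbs_dvd_natAbs.2 hxy
  have hxle := Nat.le_of_dvd (by omega) hD
  have hyle : (y - 1).natAbs ≤ y.natAbs + 1 := by omega
  -- the number `R`
  obtain ⟨R, hR⟩ : ∃ R, R = x.natAbs * ua x (n - 2) := ⟨_, rfl⟩
  have hR0 : 0 < R := by
    rw [hR]
    have h4 := two_ua (y := x) (by omega) (b := n - 2) (by omega)
    have h5 : 0 < x.natAbs ^ (n - 2) := Nat.pow_pos (by omega)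
    exact Nat.mul_pos (by omega) (by omega)
  have hRle : R ≤ x.natAbs ^ (n - 1) + x.natAbs := by
    rw [hR]
    calc x.natAbs * ua x (n - 2) ≤ x.natAbs * (x.natAbs ^ (n - 2) + 1) := Nat.mul_le_mul_left _ (natAbs_pow_le x (n - 2))
      _ = x.natAbs ^ (n - 1) + x.natAbs := by
        rw [mul_add, mul_one, ← pow_succ', show n - 2 + 1 = n - 1 by omega]
  rw [← hR] at hB
  have d1 := hB B (by omega) (by omega)
  have d2 := hB (B - 1) (by omega) (by omega)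
  have d3 := hB (B - 2) (by omega) (by omega)
  have g : ∀ {a b c : ℕ}, a = b + c → Nat.gcd (ua y a) (ua y b) ∣ ua y c := by
    intro a b c habc
    have h5 : ((Nat.gcd (ua y a) (ua y b) : ℕ) : ℤ) ∣ y ^ a - 1 := Int.natCast_dvd.2 (Nat.gcd_dvd_left _ _)
    have h6 : ((Nat.gcd (ua y a) (ua y b) : ℕ) : ℤ) ∣ y ^ b - 1 := Int.natCast_dvd.2 (Nat.gcd_dvd_right _ _)
    apply Int.natCast_dvd.1
    have h7 : y ^ c - 1 = (y ^ a - 1) - y ^ c * (y ^ b - 1) := by rw [habc, pow_add]; ring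
    rw [h7]
    exact dvd_sub h5 (h6.mul_left _)
  have g1 := g (a := B) (b := B - 1) (c := 1) (by omega)
  have g2 := g (a := B) (b := B - 2) (c := 2) (by omega)
  have g3 := g (a := B - 1) (b := B - 2) (c := 1) (by omega)
  obtain ⟨u, hu⟩ : ∃ u, u = y.natAbs := ⟨_, rfl⟩
  have p1 : 0 < ua y 1 := by rw [ua_one]; omega
  have p2 : 0 < ua y 2 := by
    rw [ua_two]
    exact Nat.mul_pos (by omega) (by omega)
  have h8 := lcm_three d1 d2 d3 hR0 g1 g2 g3 p1 p2 p1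
  have a1 := two_ua hy (b := B) (by omega)
  have a2 := two_ua hy (b := B - 1) (by omega)
  have a3 := two_ua hy (b := B - 2) (by omega)
  have b1 : ua y 1 ≤ 2 * u := by rw [ua_one]; omega
  have b2 : ua y 2 ≤ 2 * u ^ 2 := by
    have := natAbs_pow_le y 2
    rw [← hu] at this
    have : 1 ≤ u ^ 2 := Nat.one_le_pow _ _ (by omega)
    omega
  rw [← hu] at a1 a2 a3 h3 hyle hy
  have h9 : u ^ B * u ^ (B - 1) * u ^ (B - 2) ≤ 8 * (2 * u * (R * (2 * u ^ 2 * (2 * u)))) := by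
    calc u ^ B * u ^ (B - 1) * u ^ (B - 2) ≤ 2 * ua y B * (2 * ua y (B - 1)) * (2 * ua y (B - 2)) :=
          Nat.mul_le_mul (Nat.mul_le_mul a1 a2) a3
      _ = 8 * (ua y B * ua y (B - 1) * ua y (B - 2)) := by ring
      _ ≤ 8 * (ua y 1 * (R * (ua y 2 * ua y 1))) := Nat.mul_le_mul_left _ h8
      _ ≤ _ := Nat.mul_le_mul_left _ (Nat.mul_le_mul b1 (Nat.mul_le_mul_left _ (Nat.mul_le_mul b2 b1)))
  have h10 : R ≤ 8 * u ^ (m - 1) := by
    have h11 : u + 1 ≤ u ^ (m - 1) := by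
      calc u + 1 ≤ u ^ 2 := by nlinarith
        _ ≤ u ^ (m - 1) := Nat.pow_le_pow_right (by omega) (by omega)
    omega
  have h11 : u ^ (3 * B - 3) ≤ u ^ (m + 12) := by
    have e1 : u ^ (3 * B - 3) = u ^ B * u ^ (B - 1) * u ^ (B - 2) := by
      rw [← pow_add, ← pow_add]
      congr 1
      omega
    rw [e1]
    refine h9.trans ?_
    calc 8 * (2 * u * (R * (2 * u ^ 2 * (2 * u)))) ≤ 8 * (2 * u * (8 * u ^ (m - 1) * (2 * u ^ 2 * (2 * u)))) :=
          Nat.mul_le_mul_left _ (Nat.mul_le_mul_left _ (Nat.mul_le_mul_right _ h10))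
      _ = 2 ^ 9 * (u ^ (m - 1) * u ^ 4) := by ring
      _ ≤ u ^ 9 * (u ^ (m - 1) * u ^ 4) := Nat.mul_le_mul_right _ (Nat.pow_le_pow_left hy 9)
      _ = u ^ (m + 12) := by
        rw [← pow_add, ← pow_add]
        congr 1
        omega
  have h12 := (Nat.pow_le_pow_iff_right (show 1 < u by omega)).1 h11
  omega

end Cfsg.Agent.R2.Spec.AA
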