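import Cfsg.Agent.R2.Spec.P1.TopLin

/-!
# Team T3 (S3435), packet THIRD for `L_n(q)`, `U_n(q)` (helper22)

`HasMat.ub_third` : the orders of elements of `L_n(q)` (`s = q`), `U_n(q)` (`s = -q`) divisible by a prime of the class
`n - 2` divide `p |s^(n-2) - 1|` or `|s^(n-2) - 1| |s + 1|`.
-/

set_option autoImplicit false

namespace Cfsg.Agent.R2.Spec.AA

open Finset Function Cfsg Cfsg.Agent.H426.LieFam Cfsg.Agent.R2.Spec Cfsg.Agent.R2.Spec.X7 Cfsg.Agent.R2.Spec.P1
open Cfsg.Agent.H437.Win (pow_scalar scalar_of_map roots_ne_zero count_stable sg' sg'_injective)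

universe u

/-- `|s^2 - 1|` -/
theorem ua_two (s : ℤ) : ua s 2 = (s - 1).natAbs * (s + 1).natAbs := by
  rw [ua, ← Int.natAbs_mul]
  congr 1
  ring

theorem ua_one (s : ℤ) : ua s 1 = (s - 1).natAbs := by
  rw [ua, pow_one]

theorem ua_dvd {s : ℤ} {a b : ℕ} (h : a ∣ b) : ua s a ∣ ua s b := by
  obtain ⟨c, rfl⟩ := h
  unfold ua
  apply Int.natAbs_dvd_natAbs.2
  rw [pow_mul]
  exact sub_one_dvd_pow_sub_one _ _
where
  sub_one_dvd_pow_sub_one (a : ℤ) (n : ℕ) : a - 1 ∣ a ^ n - 1 := by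
    simpa using sub_dvd_pow_sub_pow a 1 n

/-- an element whose order is divisible by a prime of the class `n - 2` -/
theorem third_mat {F : Type*} [Field F] {K : Type*} [Field K] [IsAlgClosed K] [Algebra F K] {s : ℤ} {p n : ℕ}
    [Fact p.Prime] [CharP K p] (hn : 5 ≤ n)
    (A : Matrix (Fin n) (Fin n) F) (hdetA : A.det = 1) (hinj : Injective (zp s : K → K))
    [DecidableEq K]
    (hcs : ∀ x, (A.map (algebraMap F K)).charpoly.roots.count (zp s x) = (A.map (algebraMap F K)).charpoly.roots.count x)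
    {r : ℕ} (hr : r.Prime) (hrp : r ≠ p) (hra : ∀ a, 1 ≤ a → a ≤ n → r ∣ ua s a → a = n - 2)
    (hA : ∀ E, (∃ z : F, A ^ E = z • (1 : Matrix (Fin n) (Fin n) F)) → r ∣ E) :
    ∃ E, (∃ z : F, A ^ E = z • (1 : Matrix (Fin n) (Fin n) F)) ∧
      (E ∣ p * ua s (n - 2) ∨ E ∣ ua s (n - 2) * (s + 1).natAbs) := by
  set Y : Matrix (Fin n) (Fin n) K := A.map (algebraMap F K) with hY
  have hdet : Y.det = 1 := by
    rw [hY, show A.map (algebraMap F K) = (algebraMap F K).mapMatrix A from rfl, ← RingHom.map_det, hdetA, map_one]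
  set Λ := Y.charpoly.roots.toFinset with hΛ
  have hmem : ∀ x, x ∈ Λ ↔ 1 ≤ Y.charpoly.roots.count x := by
    intro x
    rw [hΛ, Multiset.mem_toFinset, Multiset.one_le_count_iff_mem]
  have hst : Stab s Λ := by
    refine ⟨fun x hx => roots_ne_zero hdet (Multiset.mem_toFinset.1 hx), fun x hx => ?_⟩
    rw [hmem] at hx ⊢
    rw [hcs]
    exact hx
  have hsum : ∑ x ∈ Λ, Y.charpoly.roots.count x = n := by
    rw [hΛ, Multiset.toFinset_sum_count_eq, ← (IsAlgClosed.splits Y.charpoly).natDegree_eq_card_roots,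
      Matrix.charpoly_natDegree_eq_dim, Fintype.card_fin]
  have key : ∀ k j : ℕ, (∃ z, ∀ x ∈ Λ, x ^ k = z) → (∀ x ∈ Λ, Y.charpoly.roots.count x ≤ p ^ j) →
      ∃ z : F, A ^ (k * p ^ j) = z • (1 : Matrix (Fin n) (Fin n) F) := by
    rintro k j ⟨z, hz⟩ hc
    exact scalar_of_map A (by omega) (pow_scalar Y (k := k) (s := j) (z := z)
      (fun x hx => hz x (Multiset.mem_toFinset.2 hx)) (fun x hx => hc x (Multiset.mem_toFinset.2 hx)))
  have hp := (Fact.out : p.Prime)
  have hcount : ∀ x ∈ Λ, Y.charpoly.roots.count x ≤ n := by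
    intro x hx
    exact (Finset.single_le_sum (f := fun x => Y.charpoly.roots.count x) (fun _ _ => Nat.zero_le _) hx).trans hsum.le
  have hcard : Λ.card ≤ n := by
    refine le_trans ?_ hsum.le
    rw [Finset.card_eq_sum_ones]
    exact Finset.sum_le_sum fun x hx => (hmem x).1 hx
  have hper_le : ∀ x ∈ Λ, minimalPeriod (zp s) x ≤ n := by
    intro x hx
    rw [← card_orb]
    exact (Finset.card_le_card (hst.orb_subset hx)).trans hcard
  -- an eigenvalue of period `n - 2`
  obtain ⟨x, hx, hper⟩ : ∃ x ∈ Λ, minimalPeriod (zp s) x = n - 2 := by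
    by_contra hcon
    push Not at hcon
    have h1 : ∀ x ∈ Λ, x ^ (∏ a ∈ (Finset.Icc 1 n).erase (n - 2), ua s a) = 1 := by
      intro x hx
      have h2 := pow_orb (hst.ne x hx) (hst.self_mem_orb hinj hx)
      obtain ⟨k, hk⟩ := Finset.dvd_prod_of_mem (fun a => ua s a)
        (Finset.mem_erase.2 ⟨hcon x hx, Finset.mem_Icc.2 ⟨hst.period hinj hx, hper_le x hx⟩⟩)
      rw [hk, pow_mul, h2, one_pow]
    have h2 := hA _ (key _ n ⟨1, h1⟩ fun x hx => (hcount x hx).trans (Nat.lt_pow_self hp.one_lt).le)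
    rcases (hr.dvd_mul).1 h2 with h3 | h3
    · obtain ⟨a, ha, h4⟩ := (Prime.dvd_finsetProd_iff (Nat.prime_iff.1 hr) _).1 h3
      rw [Finset.mem_erase, Finset.mem_Icc] at ha
      exact ha.1 (hra a ha.2.1 ha.2.2 h4)
    · exact hrp ((Nat.prime_dvd_prime_iff_eq hr hp).1 (hr.dvd_of_dvd_pow h3))
  have hsub := hst.orb_subset hx
  have hx0 := hst.ne x hx
  have horb : (orb s x).card = n - 2 := by rw [card_orb, hper]
  have hcx : ∀ y ∈ orb s x, Y.charpoly.roots.count y = Y.charpoly.roots.count x := by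
    intro y hy
    obtain ⟨i, -, rfl⟩ := mem_orb.1 hy
    clear hy
    induction i with
    | zero => rfl
    | succ i ih => rw [Function.iterate_succ_apply', hcs, ih]
  have hsplit : ∑ y ∈ orb s x, Y.charpoly.roots.count y + ∑ y ∈ Λ \ orb s x, Y.charpoly.roots.count y = n := by
    rw [add_comm, Finset.sum_sdiff hsub, hsum]
  rw [Finset.sum_congr rfl hcx, Finset.sum_const, horb, smul_eq_mul] at hsplit
  have hc1 := (hmem x).1 hx
  have hcx1 : Y.charpoly.roots.count x = 1 := by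
    by_contra hne
    have : 2 * (n - 2) ≤ (n - 2) * Y.charpoly.roots.count x := by
      rw [mul_comm]
      exact Nat.mul_le_mul_left _ (by omega)
    omega
  rw [hcx1, mul_one] at hsplit
  have hrest : ∑ y ∈ Λ \ orb s x, Y.charpoly.roots.count y = 2 := by omega
  have hxexp : ∀ z ∈ orb s x, z ^ ua s (n - 2) = 1 := by
    intro z hz
    have h1 := pow_orb hx0 hz
    rwa [hper] at h1
  have hst1 : Stab s (Λ \ orb s x) := by convert hst.sdiff hinj hx
  obtain ⟨y, hy⟩ : (Λ \ orb s x).Nonempty := by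
    by_contra hcon
    rw [Finset.not_nonempty_iff_eq_empty] at hcon
    rw [hcon, Finset.sum_empty] at hrest
    omega
  have hle2 : ∀ w ∈ Λ \ orb s x, Y.charpoly.roots.count w ≤ 2 := by
    intro w hw
    rw [← hrest]
    exact Finset.single_le_sum (f := fun x => Y.charpoly.roots.count x) (fun _ _ => Nat.zero_le _) hw
  have hcard2 : (Λ \ orb s x).card ≤ 2 := by
    rw [← hrest, Finset.card_eq_sum_ones]
    exact Finset.sum_le_sum fun x hx => (hmem x).1 (Finset.mem_sdiff.1 hx).1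
  have hperle : ∀ w ∈ Λ \ orb s x, minimalPeriod (zp s) w ≤ 2 := by
    intro w hw
    rw [← card_orb]
    exact (Finset.card_le_card (hst1.orb_subset hw)).trans hcard2
  have hpers : ∀ w ∈ Λ \ orb s x, 1 ≤ minimalPeriod (zp s) w := fun w hw => hst1.period hinj hw
  have hwexp : ∀ w ∈ Λ \ orb s x, w ^ ua s (minimalPeriod (zp s) w) = 1 := fun w hw =>
    pow_orb (hst1.ne w hw) (hst1.self_mem_orb hinj hw)
  by_cases hp2 : ∃ w ∈ Λ \ orb s x, minimalPeriod (zp s) w = 2
  · -- one orbit of length two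
    obtain ⟨w, hw, hw2⟩ := hp2
    have hall : orb s w = Λ \ orb s x :=
      Finset.eq_of_subset_of_card_le (hst1.orb_subset hw) (by rw [card_orb, hw2]; exact hcard2)
    have hcw : ∀ z ∈ Λ \ orb s x, Y.charpoly.roots.count z = 1 := by
      have h2 : (Λ \ orb s x).card = 2 := by rw [← hall, card_orb, hw2]
      have h1 : ∑ x ∈ Λ \ orb s x, 1 = ∑ x ∈ Λ \ orb s x, Y.charpoly.roots.count x := by
        rw [hrest, ← Finset.card_eq_sum_ones, h2]
      intro z hz
      exact ((Finset.sum_eq_sum_iff_of_le (fun x hx => (hmem x).1 (Finset.mem_sdiff.1 hx).1)).1 h1 z hz).symm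
    have h4 := key (ua s (n - 2) * (s + 1).natAbs) 0 ⟨1, ?_⟩ ?_
    · rw [pow_zero, mul_one] at h4
      exact ⟨_, h4, Or.inr dvd_rfl⟩
    · intro z hz
      by_cases hzo : z ∈ orb s x
      · rw [pow_mul, hxexp z hzo, one_pow]
      · have hz1 : z ∈ Λ \ orb s x := Finset.mem_sdiff.2 ⟨hz, hzo⟩
        have h5 : z ∈ orb s w := by rw [hall]; exact hz1
        have h6 := pow_orb (hst1.ne w hw) h5
        rw [hw2, ua_two] at h6
        rw [ua_eq, mul_assoc, mul_comm, pow_mul, h6, one_pow]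
    · intro z hz
      rw [pow_zero]
      by_cases hzo : z ∈ orb s x
      · rw [hcx z hzo, hcx1]
      · rw [hcw z (Finset.mem_sdiff.2 ⟨hz, hzo⟩)]
  · push Not at hp2
    have hone : ∀ w ∈ Λ \ orb s x, w ^ ua s (n - 2) = 1 := by
      intro w hw
      have h1 : minimalPeriod (zp s) w = 1 := by
        have := hperle w hw
        have := hpers w hw
        have := hp2 w hw
        omega
      have h2 := hwexp w hw
      rw [h1, ua_one] at h2
      obtain ⟨k, hk⟩ := dvd_ua s (n - 2)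
      rw [hk, pow_mul, h2, one_pow]
    have h4 := key (ua s (n - 2)) 1 ⟨1, ?_⟩ ?_
    · refine ⟨_, h4, Or.inl ?_⟩
      rw [pow_one, mul_comm]
    · intro z hz
      by_cases hzo : z ∈ orb s x
      · exact hxexp z hzo
      · exact hone z (Finset.mem_sdiff.2 ⟨hz, hzo⟩)
    · intro z hz
      rw [pow_one]
      by_cases hzo : z ∈ orb s x
      · rw [hcx z hzo, hcx1]
        exact hp.one_le
      · exact (hle2 z (Finset.mem_sdiff.2 ⟨hz, hzo⟩)).trans hp.two_le

/-- **The orders divisible by a prime of the class `n - 2`.** -/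
theorem HasMat.ub_third {F : Type*} [Field F] [Fintype F] {s : ℤ} {p n N r : ℕ} [Fact p.Prime] [CharP F p]
    (h : HasMat F (AlgebraicClosure F) s n N) (hr : r.Prime) (hrp : r ≠ p) (hrN : r ∣ N) (hn : 5 ≤ n)
    (ho : orderOf ((s : ℤ) : ZMod r) + 2 = n) :
    N ∣ p * ua s (n - 2) ∨ N ∣ ua s (n - 2) * (s + 1).natAbs := by
  classical
  have hCP : CharP (AlgebraicClosure F) p := charP_of_injective_algebraMap (algebraMap F (AlgebraicClosure F)).injective p
  obtain ⟨hinj, A, hdet, hcs, hA⟩ := h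
  obtain ⟨E, hz, hE⟩ := third_mat hn A hdet hinj hcs hr hrp (fun a ha1 ha2 hd => by
      rw [dvd_ua_iff] at hd
      obtain ⟨k, hk⟩ := hd
      rcases k with _ | _ | k
      · omega
      · omega
      · have : orderOf ((s : ℤ) : ZMod r) * 2 ≤ orderOf ((s : ℤ) : ZMod r) * (k + 1 + 1) :=
          Nat.mul_le_mul_left _ (by omega)
        omega) (fun E hE => hrN.trans (hA E hE))
  exact hE.imp (hA E hz).trans (hA E hz).trans

end Cfsg.Agent.R2.Spec.AA
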